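import Groth.Prelude.Def_BlowUp2
import Groth.Prelude.Def_FrameBundle
import Groth.Agent.Props58.LocFree.Basis
import Groth.Agent.MP99.Ops
import Groth.Agent.Amp73.PullTensor

/-!
Strict transforms of finite locally free modules.
-/

set_option autoImplicit false
set_option linter.style.haveILetI false

noncomputable section

universe u

open CategoryTheory Limits AlgebraicGeometry TopologicalSpace Opposite
open Groth.Agent.QC70 Groth.Agent.Props58.LocFree

namespace Groth.Agent.Strict99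

variable {X Y : Scheme.{u}}

theorem isFinLocFree_pullback (φ : Y ⟶ X) {M : X.Modules} (h : FlatMod.IsFinLocFree M) :
    FlatMod.IsFinLocFree ((Scheme.Modules.pullback φ).obj M) := fun y => by
  obtain ⟨V, n, hyV, ⟨i⟩⟩ := h (φ y)
  exact ⟨φ ⁻¹ᵁ V, n, hyV, ⟨((Amp73.pullRestrictIso φ V).app M).symm ≪≫
      (Scheme.Modules.pullback (φ ∣_ V)).mapIso
        (((Scheme.Modules.restrictFunctorIsoPullback V.ι).app M).symm ≪≫ i) ≪≫
      FrB.pullbackFreeIso (φ ∣_ V) n⟩⟩

/-- A map whose kernel consists of sections killed by powers of an effective Cartier ideal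
is injective on a finite locally free module. -/
theorem mono_of_killed (E : X.IdealSheafData) (hE : BlowUp.IsEffCartierIdeal E) {M N : X.Modules}
    (hM : FlatMod.IsFinLocFree M) (π : M ⟶ N)
    (h : ∀ (V : X.affineOpens) (m : M.presheaf.obj (op V.1)), π.app V.1 m = 0 →
      BlowUp.KilledByPowerNear E M V m) : Mono π := by
  refine ⟨fun {Z} a b e => ?_⟩
  ext W z
  refine TopCat.Sheaf.eq_of_locally_eq' (F := ⟨M.presheaf, M.isSheaf⟩)
    (fun V : {V : X.affineOpens // V.1 ≤ W ∧ (∃ g ∈ nonZeroDivisors Γ(X, V.1),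
      E.ideal V = Ideal.span {g}) ∧ ∃ (n : ℕ) (s : Fin n → Γ(M, V.1)), StalkBasis s} => V.1.1) W
    (fun V => homOfLE V.2.1) ?_ _ _ fun V => ?_
  · intro x hx
    obtain ⟨U, n, s, hxU, hs⟩ := isFinLocFree_iff.mp hM x
    obtain ⟨V, hxV, hVle, hg⟩ := MP99.exists_nzd_le hE x (W := W ⊓ U) ⟨hx, hxU⟩
    exact Opens.mem_iSup.mpr
      ⟨⟨V, hVle.trans inf_le_left, hg, n, _, hs.restrict (hVle.trans inf_le_right)⟩, hxV⟩
  obtain ⟨V, hVW, ⟨g, hg, hI⟩, n, s, hs⟩ := V
  show res M hVW (a.app W z) = res M hVW (b.app W z)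
  rw [← sub_eq_zero, ← res_sub]
  generalize hm : res M hVW (a.app W z - b.app W z) = m
  have hπ : π.app V.1 m = 0 := by
    rw [← hm, app_res, map_sub, show π.app W (a.app W z) = π.app W (b.app W z) from congr($(e).app W z),
      sub_self, res_zero]
  obtain ⟨k, hk⟩ := h V m hπ
  have hgk : g ^ k • m = 0 := hk _ (by
    rw [Scheme.IdealSheafData.ideal_pow, Pi.pow_apply, hI]
    exact Ideal.pow_mem_pow (Ideal.mem_span_singleton_self g) k)
  obtain ⟨c, hc⟩ := (hs.bijective le_rfl).2 m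
  change ∑ i, c i • res M le_rfl (s i) = m at hc
  have hc0 : (fun i => g ^ k * c i) = fun _ => 0 := hs.eq_of_comb le_rfl (by
    simp only [mul_smul, zero_smul, Finset.sum_const_zero, ← Finset.smul_sum, hc, hgk])
  rw [← hc]
  refine Finset.sum_eq_zero fun i _ => ?_
  rw [(mul_left_mem_nonZeroDivisors_eq_zero_iff (pow_mem hg k)).mp (congrFun hc0 i), zero_smul]

theorem isIso_strictTransform (I : X.IdealSheafData) (b : Y ⟶ X) (hb : BlowUp.IsBlowUp b I)
    (F : X.Modules) (hF : FlatMod.IsFinLocFree F) (G : Y.Modules)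
    (π : (Scheme.Modules.pullback b).obj F ⟶ G) (hG : BlowUp.IsStrictTransform b I F G π) :
    IsIso π ∧ FlatMod.IsFinLocFree G := by
  have hP := isFinLocFree_pullback b hF
  haveI := hG.1
  haveI := mono_of_killed _ hb.1 hP π fun V m hm => (hG.2 V m).mp hm
  haveI : IsIso π := isIso_of_mono_of_epi π
  refine ⟨inferInstance, fun y => ?_⟩
  obtain ⟨U, n, hy, ⟨i⟩⟩ := hP y
  exact ⟨U, n, hy, ⟨((Scheme.Modules.restrictFunctor U.ι).mapIso (asIso π)).symm ≪≫ i⟩⟩

end Groth.Agent.Strict99
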